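import Groth.Agent.ExtZShLib.Vanish
import Groth.Agent.InjMod.FunLES
import Groth.Agent.InjMod.Hom
import Groth.Agent.InjMod.ExtRestr
import Groth.Agent.PerfTri.Bounded
import Groth.Agent.ProperFin.Projective
import Groth.Agent.S10943

/-!
# Coherence of Ext sheaves with supports
-/

set_option autoImplicit false
set_option linter.style.haveILetI false

universe u

open CategoryTheory CategoryTheory.Limits AlgebraicGeometry Opposite TopologicalSpace
open Groth.Agent.PullStalk.Sky Groth.Agent.AssSch.Stalk Groth.Agent.InjMod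

noncomputable section

namespace Groth.Agent.ExtZShLib

variable {X : Scheme.{u}}

theorem isNoetherian_affine [IsLocallyNoetherian X] {V : X.Opens} (hV : IsAffineOpen V) :
    IsNoetherian (V : Scheme.{u}) := by
  have : IsLocallyNoetherian (V : Scheme.{u}) := isLocallyNoetherian_of_isOpenImmersion V.ι
  have : CompactSpace (V : Scheme.{u}) := isCompact_iff_compactSpace.mp hV.isCompact
  exact {}

/-- Sheaf Ext of coherent modules on a locally Noetherian scheme is coherent. -/
theorem isCoh_extSh [IsLocallyNoetherian X] (F G : X.Modules) (hF : Coh.IsCoh F) (hG : Coh.IsCoh G)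
    [ModSite.HasSheafHom (O := X.sheaf) F] [HasInjectiveResolutions (ModSite.Mod X.sheaf)] (i : ℕ) :
    Coh.IsCoh ((ModSite.extSh (O := X.sheaf) F i).obj G) := by
  choose V hV hx _ using fun x : X =>
    exists_isAffineOpen_mem_and_subset (X := X) (x := x) (U := ⊤) trivial
  refine PerfTri.Bounded.isCoh_of_cover V (IsOpenCover.mk (top_le_iff.mp fun x _ =>
    Opens.mem_iSup.mpr ⟨x, hx x⟩)) _ fun x => ?_
  have := isNoetherian_affine (hV x)
  have : ModSite.HasSheafHom (O := (V x : Scheme.{u}).sheaf) (F.restrict (V x).ι) :=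
    KFlat.hasSheafHom (O := (V x : Scheme.{u}).sheaf) (F.restrict (V x).ι)
  have : HasInjectiveResolutions (ModSite.Mod (V x : Scheme.{u}).sheaf) :=
    inferInstanceAs (HasInjectiveResolutions (V x : Scheme.{u}).Modules)
  obtain ⟨e⟩ := InjMod.nonempty_extSh_restrict (V x) F G i
  exact CohDev.isCoh_of_iso e.symm (Groth.Agent.S10943.result _ _ _
    (ProperFin.isCoh_restrict (V x).ι hF) (ProperFin.isCoh_restrict (V x).ι hG) i)

variable (U : X.Opens) (F : X.Modules) [IsLocallyNoetherian X]

/-- The quotient of `F` by its sections supported outside `U`. -/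
abbrev quotZ : X.Modules := cokernel (secOnι U F)

theorem isCoh_secOn (hF : Coh.IsCoh F) : Coh.IsCoh (secOn U F) :=
  CohDev.isCoh_of_mono (secOnι U F) (isQCoh_secOn U F hF.1) hF

theorem isCoh_quotZ (hF : Coh.IsCoh F) : Coh.IsCoh (quotZ U F) := by
  have := hF.1
  have : (secOn U F).IsQuasicoherent := isQCoh_secOn U F hF.1
  exact CohDev.isCoh_of_epi (cokernel.π (secOnι U F)) hF
    (QCoh.isQuasicoherent_cokernel (secOnι U F))

/-- The support of the quotient, outside `U`, is in the closure of the support over `U`. -/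
theorem support_quotZ_subset (hF : Coh.IsCoh F) :
    CohB1.support (quotZ U F) ⊆ closure (CohB1.support F ∩ (U : Set X)) := by
  intro y hy
  have hQ := isCoh_quotZ U F hF
  have := hQ.1
  have := hF.1
  obtain ⟨z, hz, hzy⟩ := AssSch.Basic.exists_mem_ass_specializes (quotZ U F)
    (not_subsingleton_iff_nontrivial.mp hy)
  have hzA := (AssSch.Quot.mem_ass_iff_exists (quotZ U F) z).mp hz
  have hzF : z ∈ CohB1.support F := CohDev.support_subset_of_epi (cokernel.π (secOnι U F))
    (CohDev.mem_support_of_assoc hzA)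
  by_cases hzU : z ∈ U
  · exact (closure_mono (Set.singleton_subset_iff.2 (show z ∈ CohB1.support F ∩ (U : Set X) from
      ⟨hzF, hzU⟩))) (specializes_iff_mem_closure.mp hzy)
  exfalso
  obtain ⟨V, hV, hzV, -⟩ := exists_isAffineOpen_mem_and_subset (X := X) (x := z) (U := ⊤) trivial
  obtain ⟨t, ht0, ht⟩ := hzA
  have hle : idAt U hV hzV ≤ IsLocalRing.maximalIdeal (X.presheaf.stalk z) := by
    rw [idAt, Ideal.map_le_iff_le_comap]
    intro a ha hu
    exact (ZClosLib.StalkCrit.basicOpen_le_compl hV (cplClosed U) ha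
      ((X.mem_basicOpen a z hzV).mpr hu)).2 hzU
  -- the stalk sequence
  let S := DerSch.stalkFunctor X z
  have : S.PreservesHomology := KFlat.StalkTensor.preservesHomology_stalkFunctor z
  let Sq := ShortComplex.mk (secOnι U F) (cokernel.π (secOnι U F)) (cokernel.condition _)
  have hex : (Sq.map S).Exact := (ShortComplex.exact_of_g_is_cokernel _ (cokernelIsCokernel _)).map S
  have : PreservesFiniteColimits S := Functor.preservesFiniteColimits_of_preservesHomology S
  have hepi : Epi (S.map Sq.g) := inferInstance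
  obtain ⟨s, rfl⟩ := (ModuleCat.epi_iff_surjective _).1 hepi t
  have hrs : ∀ r ∈ idAt U hV hzV, ∃ k : ℕ, ∀ c ∈ idAt U hV hzV ^ k, c • r • s = 0 := fun r hr => by
    refine (mem_range_stL_secOnι U hF.1 hV hzV (r • s)).1 ?_
    obtain ⟨w, hw⟩ := (ShortComplex.moduleCat_exact_iff _).1 hex (r • s)
      ((map_smul (S.map Sq.g).hom r s).trans (ht r (hle hr)))
    exact ⟨w, hw⟩
  have : IsNoetherianRing (X.presheaf.stalk z) := inferInstance
  obtain ⟨T, hT⟩ := IsNoetherian.noetherian (idAt U hV hzV)
  have hTm : ∀ r : T, (r : X.presheaf.stalk z) ∈ idAt U hV hzV := fun r =>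
    hT ▸ Submodule.subset_span r.2
  choose k hk using fun r : T => hrs r (hTm r)
  classical
  let K := Finset.univ.sup k
  have hkill : ∀ r ∈ idAt U hV hzV, ∀ c ∈ idAt U hV hzV ^ K, c • r • s = 0 := fun r hr => by
    rw [← hT] at hr
    induction hr using Submodule.span_induction with
    | mem r hr =>
      exact fun c hc => hk ⟨r, hr⟩ c
        (Ideal.pow_le_pow_right (Finset.le_sup (f := k) (Finset.mem_univ _)) hc)
    | zero => exact fun c _ => by rw [zero_smul, smul_zero]
    | add a b _ _ ha hb => exact fun c hc => by rw [add_smul, smul_add, ha c hc, hb c hc, add_zero]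
    | smul d b _ hb => exact fun c hc => by rw [smul_eq_mul, mul_smul, smul_comm, hb c hc, smul_zero]
  obtain ⟨w, hw⟩ := (mem_range_stL_secOnι U hF.1 hV hzV s).2 ⟨K + 1, fun c hc => by
    rw [pow_succ] at hc
    refine Submodule.mul_induction_on hc (fun a ha b hb => ?_) (fun a b ha hb => ?_)
    · exact (mul_smul a b s).trans (hkill b hb a ha)
    · rw [add_smul, ha, hb, add_zero]⟩
  refine ht0 ?_
  rw [← hw]
  exact (Sq.map S).moduleCat_zero_apply w

variable [ModSite.HasSheafHom (O := X.sheaf) F]

/-- Exactness on injectives of the sequence of functors attached to `Γ_Z F → F → F/Γ_Z F`. -/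
theorem exists_seq (hF : Coh.IsCoh F) [HasInjectiveResolutions X.Modules] (G : X.Modules)
    (hG : Coh.IsCoh G) (i : ℕ) :
    letI : ModSite.HasSheafHom (O := X.sheaf) (quotZ U F) := KFlat.hasSheafHom (O := X.sheaf) _
    IsZero (((TZ U (quotZ U F)).rightDerived i).obj G) →
      Coh.IsCoh (((TZ U F).rightDerived i).obj G) := by
  letI hs : ∀ M : X.Modules, ModSite.HasSheafHom (O := X.sheaf) M := fun M =>
    KFlat.hasSheafHom (O := X.sheaf) M
  intro h0
  have hF' := isCoh_secOn U F hF
  let S : ShortComplex X.Modules := ShortComplex.mk (secOnι U F) (cokernel.π (secOnι U F))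
    (cokernel.condition _)
  have hS : S.ShortExact :=
    { exact := ShortComplex.exact_of_g_is_cokernel _ (cokernelIsCokernel _)
      mono_f := mono_secOnι U F
      epi_g := inferInstanceAs (Epi (cokernel.π (secOnι U F))) }
  let a : TZ U (quotZ U F) ⟶ TZ U F :=
    Functor.whiskerRight (InjMod.homMap S.g) (ModSite.sectOn (O := X.sheaf) U)
  let b : TZ U F ⟶ InjMod.homF (secOn U F) :=
    Functor.whiskerLeft (InjMod.homF F) (ModSite.sectOnι (O := X.sheaf) U) ≫
      (InjMod.homF F).rightUnitor.hom ≫ InjMod.homMap S.f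
  have hb : ∀ Q, b.app Q = secOnι U ((InjMod.homF F).obj Q) ≫ (InjMod.homMap S.f).app Q := fun Q =>
    congrArg (secOnι U ((InjMod.homF F).obj Q) ≫ ·) (Category.id_comp _)
  have hnat : ∀ Q, a.app Q ≫ secOnι U ((InjMod.homF F).obj Q) =
      secOnι U ((InjMod.homF (quotZ U F)).obj Q) ≫ (InjMod.homMap S.g).app Q := fun Q =>
    (ModSite.sectOnι (O := X.sheaf) U).naturality ((InjMod.homMap S.g).app Q)
  have w : a ≫ b = 0 := by
    refine NatTrans.ext (funext fun Q => ?_)
    have h := congrArg (fun η => NatTrans.app η Q) (InjMod.homMap_comp_eq_zero S)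
    rw [NatTrans.comp_app, hb, reassoc_of% hnat Q]
    exact (congrArg (secOnι U ((InjMod.homF (quotZ U F)).obj Q) ≫ ·) h).trans comp_zero
  -- sections of Hom out of a module null on `U` vanish over opens inside `U`
  have hnull : ∀ (Q : X.Modules) (W : X.Opens), W ≤ U → ∀ s : Γ((InjMod.homF (secOn U F)).obj Q, W), s = 0 :=
    fun Q W hW s => by
      refine TopCat.Presheaf.section_ext ⟨_, ((InjMod.homF (secOn U F)).obj Q).isSheaf⟩ W s 0 fun y hy => ?_
      refine Eq.trans ?_ (map_zero (((InjMod.homF (secOn U F)).obj Q).presheaf.germ W y hy).hom).symm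
      refine (evStalk_bijective_of_isFP (secOn U F) Q (HomShQC.isFP_of_isCoh _ hF') y).1 ?_
      rw [map_zero]
      refine LinearMap.ext fun t => ?_
      have ht : t = 0 := KFlat.StalkTensor.stalk_map_injective y (secOnι U F)
        ((LinearMap.congr_fun (stL_secOnι_eq_zero U F (hW hy)) t).trans (map_zero (stL (secOnι U F) y)).symm)
      rw [ht, map_zero, map_zero]
  have hsh : ∀ Q : X.Modules, Injective Q →
      (ShortComplex.mk (a.app Q) (b.app Q) (NatTrans.congr_app w Q)).ShortExact := by
    intro Q hQ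
    have hsec := fun V => InjMod.sections_exact_homMap S hS Q V
    refine InjMod.shortExact_of_sections _ (fun V s₁ s₂ h => ?_) (fun V s h => ?_) (fun V s => ?_)
    · refine QCoh.app_injective_of_mono (secOnι U ((InjMod.homF (quotZ U F)).obj Q)) V ((hsec V).1 ?_)
      have h' := congrArg (fun z => (secOnι U ((InjMod.homF F).obj Q)).app V z) h
      have e := fun z => congrArg (fun η => Scheme.Modules.Hom.app η V z) (hnat Q)
      exact (e s₁).symm.trans (h'.trans (e s₂))
    · obtain ⟨u, hu⟩ := (hsec V).2.1 ((secOnι U ((InjMod.homF F).obj Q)).app V s)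
        ((congrArg (fun η => Scheme.Modules.Hom.app η V s) (hb Q)).symm.trans h)
      obtain ⟨v, hv⟩ := exists_app_secOnι_eq U ((InjMod.homF (quotZ U F)).obj Q) u fun y hy hyU => by
        have h1 : stL ((InjMod.homMap S.g).app Q) y (germM _ V y hy u) = 0 := by
          refine (stL_germ _ y V hy u).trans ((congrArg (germM _ V y hy) hu).trans ?_)
          refine (stL_germ _ y V hy s).symm.trans ?_
          rw [stL_secOnι_eq_zero U _ hyU]
          rfl
        obtain ⟨W, hWV, hyW, hres⟩ := exists_res_eq_zero ((InjMod.homF F).obj Q) y hy _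
          ((stL_germ _ y V hy u).symm.trans h1)
        refine (((InjMod.homF (quotZ U F)).obj Q).presheaf.germ_res_apply (homOfLE hWV) y hyW u).symm.trans ?_
        refine (congrArg (germM _ W y hyW) ((hsec W).1 ?_)).trans (map_zero _)
        exact (QCoh.app_res ((InjMod.homMap S.g).app Q) hWV u).trans (hres.trans (map_zero _).symm)
      refine ⟨v, QCoh.app_injective_of_mono (secOnι U ((InjMod.homF F).obj Q)) V ?_⟩
      exact (congrArg (fun η => Scheme.Modules.Hom.app η V v) (hnat Q)).trans
        ((congrArg (((InjMod.homMap S.g).app Q).app V) hv).trans hu)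
    · obtain ⟨t, ht⟩ := (hsec V).2.2 s
      let tr := QCoh.res ((InjMod.homF F).obj Q) (inf_le_left : V ⊓ U ≤ V) t
      obtain ⟨u₀, hu₀⟩ := (hsec (V ⊓ U)).2.1 tr (hnull Q (V ⊓ U) inf_le_right _)
      obtain ⟨u, hu⟩ := InjMod.surjective_sheafHom_map (quotZ U F) Q (inf_le_left : V ⊓ U ≤ V) u₀
      let t' : Γ((InjMod.homF F).obj Q, V) := t - ((InjMod.homMap S.g).app Q).app V u
      obtain ⟨v, hv⟩ := exists_app_secOnι_eq U ((InjMod.homF F).obj Q) t' fun y hy hyU => by
        have hz : QCoh.res ((InjMod.homF F).obj Q) (inf_le_left : V ⊓ U ≤ V) t' = 0 := by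
          rw [map_sub, ← QCoh.app_res]
          exact sub_eq_zero.2 (hu₀.symm.trans (congrArg (((InjMod.homMap S.g).app Q).app (V ⊓ U)) hu.symm))
        refine (((InjMod.homF F).obj Q).presheaf.germ_res_apply (homOfLE (inf_le_left : V ⊓ U ≤ V)) y
          ⟨hy, hyU⟩ t').symm.trans ?_
        exact (congrArg (germM _ (V ⊓ U) y ⟨hy, hyU⟩) hz).trans (map_zero _)
      refine ⟨v, ?_⟩
      refine (congrArg (fun η => Scheme.Modules.Hom.app η V v) (hb Q)).trans ?_
      refine (congrArg (((InjMod.homMap S.f).app Q).app V) hv).trans ?_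
      rw [map_sub, ht]
      have hz2 : ((InjMod.homMap S.f).app Q).app V (((InjMod.homMap S.g).app Q).app V u) = 0 :=
        congrArg (fun η => Scheme.Modules.Hom.app (NatTrans.app η Q) V u) (InjMod.homMap_comp_eq_zero S)
      rw [hz2, sub_zero]
  have : (InjMod.homF (secOn U F)).Additive := ModSite.sheafHom_additive X.sheaf (secOn U F)
  obtain ⟨w', hex⟩ := InjMod.exact_middle a b w hsh i G
  have hmono : Mono ((NatTrans.rightDerived b i).app G) := hex.mono_g (h0.eq_of_src _ _)
  exact @CohDev.isCoh_of_mono _ _ _ _ ((NatTrans.rightDerived b i).app G) hmono (isQCoh_rightDerived_TZ U F hF hG.1 i)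
    (isCoh_extSh (secOn U F) G hF' hG i)

end Groth.Agent.ExtZShLib
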