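import Groth.Agent.InjMod.QCohInj
import Groth.Agent.ModShf.Flasque

/-!
# Injective resolutions by quasi-coherent modules on a locally Noetherian scheme
-/

set_option autoImplicit false
set_option linter.style.haveILetI false

universe u

open CategoryTheory CategoryTheory.Limits AlgebraicGeometry

noncomputable section

namespace Groth.Agent.ExtZShLib

variable {X : Scheme.{u}} [IsLocallyNoetherian X] [EnoughInjectives X.Modules]

/-- A quasi-coherent module embeds in a quasi-coherent injective module. -/
theorem exists_mono_injective_qcoh (M : X.Modules) (hM : Coh.IsQCoh M) :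
    ∃ (I : X.Modules) (j : M ⟶ I), Mono j ∧ Injective I ∧ Coh.IsQCoh I := by
  have : M.IsQuasicoherent := hM
  obtain ⟨H, l, hl, hH, j, hjl, hess⟩ := InjMod.exists_hull.{u} (Injective.ι M)
  have : Mono j := mono_of_mono_fac hjl
  obtain ⟨ι, K, hK, hK0, hKind, ⟨e⟩⟩ := InjMod.exists_decomposition H hH
  have hq : ∀ k, Coh.IsQCoh (K k) := by
    intro k
    have : IsSplitMono (Sigma.ι K k) := by
      classical
      exact IsSplitMono.mk' ⟨Sigma.desc fun l => if hl : l = k then eqToHom (congrArg K hl) else 0, by simp⟩
    by_contra hn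
    refine hK0 k (hess (Sigma.ι K k ≫ e.inv) inferInstance fun W w y hw => ?_)
    by_contra hw0
    exact hn (InjMod.isQCoh_of_meets (hK k) (hKind k) (Sigma.ι K k ≫ e.inv) j w y hw0 hw)
  exact ⟨H, j, inferInstance, hH,
    (SheafOfModules.isQuasicoherent X.ringCatSheaf).prop_of_iso e.symm
      (@QCoh.isQuasicoherent_coproduct _ _ K hq)⟩

variable (G : {M : X.Modules // Coh.IsQCoh M})

/-- The chosen quasi-coherent injective. -/
def hull : {M : X.Modules // Coh.IsQCoh M} :=
  ⟨(exists_mono_injective_qcoh G.1 G.2).choose,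
    (exists_mono_injective_qcoh G.1 G.2).choose_spec.choose_spec.2.2⟩

/-- The embedding in the chosen injective. -/
def emb : G.1 ⟶ (hull G).1 := (exists_mono_injective_qcoh G.1 G.2).choose_spec.choose

instance : Mono (emb G) := (exists_mono_injective_qcoh G.1 G.2).choose_spec.choose_spec.1

instance : Injective (hull G).1 := (exists_mono_injective_qcoh G.1 G.2).choose_spec.choose_spec.2.1

/-- The cosyzygies. -/
def syz : ℕ → {M : X.Modules // Coh.IsQCoh M}
  | 0 => G
  | n + 1 => ⟨cokernel (emb (syz n)), by
      have : (syz n).1.IsQuasicoherent := (syz n).2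
      have : (hull (syz n)).1.IsQuasicoherent := (hull (syz n)).2
      exact QCoh.isQuasicoherent_cokernel (emb (syz n))⟩

/-- The projection to the next cosyzygy. -/
def proj (n : ℕ) : (hull (syz G n)).1 ⟶ (syz G (n + 1)).1 := cokernel.π (emb (syz G n))

instance (n : ℕ) : Epi (proj G n) := inferInstanceAs (Epi (cokernel.π (emb (syz G n))))

theorem emb_proj (n : ℕ) : emb (syz G n) ≫ proj G n = 0 := cokernel.condition _

/-- `0 → Yⁿ → Iⁿ → Yⁿ⁺¹ → 0`. -/
theorem syzSeq_shortExact (n : ℕ) : (ShortComplex.mk _ _ (emb_proj G n)).ShortExact :=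
  { exact := ShortComplex.exact_of_g_is_cokernel _ (cokernelIsCokernel (emb (syz G n)))
    mono_f := inferInstanceAs (Mono (emb (syz G n)))
    epi_g := inferInstanceAs (Epi (proj G n)) }

/-- The differential. -/
def diff (n : ℕ) : (hull (syz G n)).1 ⟶ (hull (syz G (n + 1))).1 :=
  proj G n ≫ emb (syz G (n + 1))

theorem diff_diff (n : ℕ) : diff G n ≫ diff G (n + 1) = 0 := by
  simp only [diff, Category.assoc]
  rw [reassoc_of% emb_proj G (n + 1)]
  simp

/-- The resolving complex. -/
def resCx : CochainComplex X.Modules ℕ :=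
  CochainComplex.of (fun n => (hull (syz G n)).1) (diff G) (diff_diff G)

theorem resCx_d (n : ℕ) : (resCx G).d n (n + 1) = diff G n :=
  CochainComplex.of_d (fun n => (hull (syz G n)).1) (diff G) n

theorem exact_proj_diff (n : ℕ) : (ShortComplex.mk (diff G n) (diff G (n + 1)) (diff_diff G n)).Exact := by
  have h := (syzSeq_shortExact G (n + 1)).exact
  let S' : ShortComplex X.Modules := ShortComplex.mk (emb (syz G (n + 1))) (diff G (n + 1))
    (by simp only [diff]; rw [reassoc_of% emb_proj G (n + 1)]; simp)
  have h' : S'.Exact := by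
    let φ : ShortComplex.mk _ _ (emb_proj G (n + 1)) ⟶ S' :=
      { τ₁ := 𝟙 _, τ₂ := 𝟙 _, τ₃ := emb (syz G (n + 1 + 1))
        comm₁₂ := (Category.id_comp _).trans (Category.comp_id _).symm
        comm₂₃ := Category.id_comp _ }
    exact (ShortComplex.exact_iff_of_epi_of_isIso_of_mono φ).1 h
  let ψ : ShortComplex.mk (diff G n) (diff G (n + 1)) (diff_diff G n) ⟶ S' :=
    { τ₁ := proj G n, τ₂ := 𝟙 _, τ₃ := 𝟙 _
      comm₁₂ := (Category.comp_id _).symm
      comm₂₃ := (Category.id_comp _).trans (Category.comp_id _).symm }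
  exact (ShortComplex.exact_iff_of_epi_of_isIso_of_mono ψ).2 h'

set_option backward.isDefEq.respectTransparency.types false in
/-- An injective resolution by quasi-coherent modules. -/
def qcohRes : InjectiveResolution G.1 where
  cocomplex := resCx G
  injective n := inferInstanceAs (Injective (hull (syz G n)).1)
  ι := (CochainComplex.fromSingle₀Equiv _ _).symm ⟨emb G, by
    rw [resCx_d]
    exact (Category.assoc _ _ _).symm.trans ((congrArg (· ≫ emb (syz G 1)) (emb_proj G 0)).trans
      zero_comp)⟩
  quasiIso := ⟨fun n => by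
    cases n with
    | zero =>
      rw [CochainComplex.quasiIsoAt₀_iff, ShortComplex.quasiIso_iff_of_zeros]
      · let S : ShortComplex X.Modules := ShortComplex.mk (emb G) (diff G 0)
          ((Category.assoc _ _ _).symm.trans ((congrArg (· ≫ emb (syz G 1)) (emb_proj G 0)).trans
            zero_comp))
        have hS : S.Exact := by
          let φ : ShortComplex.mk _ _ (emb_proj G 0) ⟶ S :=
            { τ₁ := 𝟙 _, τ₂ := 𝟙 _, τ₃ := emb (syz G 1)
              comm₁₂ := (Category.id_comp _).trans (Category.comp_id _).symm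
              comm₂₃ := Category.id_comp _ }
          have : Epi φ.τ₁ := inferInstanceAs (Epi (𝟙 G.1))
          have : IsIso φ.τ₂ := inferInstanceAs (IsIso (𝟙 (hull G).1))
          have : Mono φ.τ₃ := inferInstanceAs (Mono (emb (syz G 1)))
          exact (ShortComplex.exact_iff_of_epi_of_isIso_of_mono φ).1 (syzSeq_shortExact G 0).exact
        refine (ShortComplex.exact_and_mono_f_iff_of_iso ?_).2
          ⟨hS, inferInstanceAs (Mono (emb G))⟩
        exact ShortComplex.isoMk (Iso.refl _) (Iso.refl _) (Iso.refl _) ((Category.id_comp _).trans (Category.comp_id _).symm)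
          ((Category.id_comp _).trans (Category.comp_id _).symm)
      all_goals rfl
    | succ n =>
      rw [quasiIsoAt_iff_exactAt]
      · rw [HomologicalComplex.exactAt_iff' _ n (n + 1) (n + 1 + 1) (by simp) (by simp)]
        refine ShortComplex.exact_of_iso ?_ (exact_proj_diff G n)
        exact ShortComplex.isoMk (Iso.refl _) (Iso.refl _) (Iso.refl _) ((Category.id_comp _).trans ((resCx_d G n).trans (Category.comp_id _).symm))
          ((Category.id_comp _).trans ((resCx_d G (n + 1)).trans (Category.comp_id _).symm))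
      · apply CochainComplex.exactAt_succ_single_obj⟩

theorem qcohRes_d (n : ℕ) : (qcohRes G).cocomplex.d n (n + 1) = diff G n := resCx_d G n

end Groth.Agent.ExtZShLib
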