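import Groth.Agent.ExtSuppLib.Basic
import Groth.Agent.QCoh.Exact
import Groth.Agent.QCoh.Qcqs
import Groth.Agent.InjMod.HomShBridge
import Groth.Agent.HomShQC.Basic
import Groth.Agent.InjMod.HomStalk
import Groth.Prelude.Def_CxOX
import Mathlib.CategoryTheory.Limits.Lattice
import Mathlib.AlgebraicGeometry.Noetherian

/-!
# Sections with supports on a scheme, in the site and in the scheme language
-/

set_option autoImplicit false
set_option linter.style.haveILetI false

universe u

open CategoryTheory CategoryTheory.Limits AlgebraicGeometry Opposite TopologicalSpace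
open Groth.Agent.PullStalk.Sky

noncomputable section

namespace Groth.Agent.ExtZShLib

open Groth.Agent.InjMod (stL stL_germ)

variable {X : Scheme.{u}} (U : X.Opens)

/-- Vanishing on `U` is vanishing of the stalks over `U`. -/
theorem restr_map_eq_zero_iff {M N : X.Modules} (φ : M ⟶ N) :
    (ModSite.restr (O := X.sheaf) U).map φ = 0 ↔ ∀ y ∈ U, stL φ y = 0 := by
  refine (ExtSuppLib.restr_map_eq_zero_iff (O := X.sheaf) U φ).trans ?_
  constructor
  · intro h y hy
    refine LinearMap.ext fun t => ?_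
    obtain ⟨W, hyW, m, rfl⟩ := exists_germM_eq M y t
    have hy' : y ∈ W ⊓ U := ⟨hyW, hy⟩
    refine (congrArg (stL φ y) (M.presheaf.germ_res_apply (homOfLE (inf_le_left : W ⊓ U ≤ W)) y hy' m).symm).trans
      ((stL_germ φ y (W ⊓ U) hy' (QCoh.res M inf_le_left m)).trans ?_)
    exact (congrArg (germM N (W ⊓ U) y hy')
      (h (homOfLE (inf_le_right : W ⊓ U ≤ U)) (QCoh.res M inf_le_left m))).trans
        (map_zero (N.presheaf.germ (W ⊓ U) y hy').hom)
  · intro h W w m
    refine TopCat.Presheaf.section_ext ⟨N.presheaf, N.isSheaf⟩ W (φ.app W m) 0 fun y hy => ?_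
    refine ((stL_germ φ y W hy m).symm.trans ?_).trans (map_zero (N.presheaf.germ W y hy).hom).symm
    rw [h y (leOfHom w hy)]
    rfl

theorem restrict_map_eq_zero_iff {M N : X.Modules} (φ : M ⟶ N) :
    (Scheme.Modules.restrictFunctor U.ι).map φ = 0 ↔ ∀ y ∈ U, stL φ y = 0 := by
  constructor
  · intro h y hy
    refine LinearMap.ext fun t => ?_
    obtain ⟨W, hyW, m, rfl⟩ := exists_germM_eq M y t
    let W' : (U : Scheme.{u}).Opens := U.ι ⁻¹ᵁ W
    have hle : U.ι ''ᵁ W' ≤ W := U.ι.image_preimage_le W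
    have hy' : y ∈ U.ι ''ᵁ W' := ⟨⟨y, hy⟩, hyW, rfl⟩
    rw [← show germM M (U.ι ''ᵁ W') y hy' (QCoh.res M hle m) = germM M W y hyW m from
      M.presheaf.germ_res_apply (homOfLE hle) y hy' m, stL_germ,
      show φ.app (U.ι ''ᵁ W') (QCoh.res M hle m) = 0 from
        congrArg (fun ψ : (Scheme.Modules.restrictFunctor U.ι).obj M ⟶
          (Scheme.Modules.restrictFunctor U.ι).obj N => Scheme.Modules.Hom.app ψ W' (QCoh.res M hle m)) h]
    exact map_zero (N.presheaf.germ _ y hy').hom
  · intro h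
    ext W m
    refine TopCat.Presheaf.section_ext ⟨N.presheaf, N.isSheaf⟩ (U.ι ''ᵁ W)
      (φ.app (U.ι ''ᵁ W) m) 0 fun y hy => ?_
    refine ((stL_germ φ y _ hy m).symm.trans ?_).trans (map_zero (N.presheaf.germ _ y hy).hom).symm
    obtain ⟨z, -, rfl⟩ := hy
    exact LinearMap.congr_fun (h _ z.2) _

/-- `Γ_Z` of a module, as a module on the scheme. -/
abbrev secOn (M : X.Modules) : X.Modules := (ModSite.sectOn (O := X.sheaf) U).obj M

/-- The inclusion of `Γ_Z`. -/
abbrev secOnι (M : X.Modules) : secOn U M ⟶ M := (ModSite.sectOnι (O := X.sheaf) U).app M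

theorem stL_secOnι_eq_zero (M : X.Modules) {y : X} (hy : y ∈ U) : stL (secOnι U M) y = 0 :=
  (restr_map_eq_zero_iff U (secOnι U M)).1
    (by simpa using ExtSuppLib.restr_map_comp_sectOnι U (M := secOn U M) (N := M) (𝟙 (secOn U M))) y hy

/-- The inclusion of `Γ_Z` in the scheme language. -/
abbrev gZι (M : X.Modules) : (DCoh.gammaZ U.ι).obj M ⟶ M := (CxOX.gammaZι U.ι).app M

theorem stL_gZι_eq_zero (M : X.Modules) {y : X} (hy : y ∈ U) : stL (gZι U M) y = 0 := by
  refine (restrict_map_eq_zero_iff U (gZι U M)).1 ?_ y hy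
  let adj := Scheme.Modules.restrictAdjunction U.ι
  have h0 : gZι U M ≫ adj.unit.app M = 0 := kernel.condition _
  have h1 := congrArg (fun ψ => (adj.homEquiv _ _).symm ψ) h0
  have : (Scheme.Modules.restrictFunctor U.ι).map (gZι U M) ≫
      (Scheme.Modules.restrictFunctor U.ι).map (adj.unit.app M) ≫ adj.counit.app _ = 0 := by
    rw [← Category.assoc, ← Functor.map_comp, h0, Functor.map_zero, zero_comp]
  rwa [adj.left_triangle_components, Category.comp_id] at this

/-- The lift into `Γ_Z` in the scheme language. -/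
theorem exists_lift_gZ {A M : X.Modules} (φ : A ⟶ M) (h : ∀ y ∈ U, stL φ y = 0) :
    ∃ ψ : A ⟶ (DCoh.gammaZ U.ι).obj M, ψ ≫ gZι U M = φ := by
  let adj := Scheme.Modules.restrictAdjunction U.ι
  have hr := (restrict_map_eq_zero_iff U φ).2 h
  have h0 : φ ≫ adj.unit.app M = 0 := by
    refine (adj.unit.naturality φ).trans ?_
    change _ ≫ (Scheme.Modules.pushforward U.ι).map ((Scheme.Modules.restrictFunctor U.ι).map φ) = 0
    rw [hr, Functor.map_zero, comp_zero]
  exact ⟨kernel.lift _ φ h0, kernel.lift_ι _ _ _⟩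

/-- The two versions of `Γ_Z` agree. -/
theorem exists_secOn_iso (M : X.Modules) :
    ∃ e : (DCoh.gammaZ U.ι).obj M ≅ secOn U M, e.hom ≫ secOnι U M = gZι U M := by
  obtain ⟨ψ, hψ⟩ := exists_lift_gZ U (secOnι U M) fun y hy => stL_secOnι_eq_zero U M hy
  let φ : (DCoh.gammaZ U.ι).obj M ⟶ secOn U M := ExtSuppLib.sectOnLift U (gZι U M)
    ((restr_map_eq_zero_iff U _).2 fun y hy => stL_gZι_eq_zero U M hy)
  have hφ : φ ≫ secOnι U M = gZι U M := ExtSuppLib.sectOnLift_ι U _ _
  refine ⟨⟨φ, ψ, ?_, ExtSuppLib.sectOn_hom_ext U ?_⟩, hφ⟩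
  · have : Mono (gZι U M) := inferInstanceAs (Mono (kernel.ι _))
    rw [← cancel_mono (gZι U M), Category.assoc, hψ, hφ, Category.id_comp]
  · exact (Category.assoc _ _ _).trans ((congrArg (ψ ≫ ·) hφ).trans (hψ.trans (Category.id_comp _).symm))

instance mono_secOnι (M : X.Modules) : Mono (secOnι U M) :=
  inferInstanceAs (Mono (kernel.ι _))

theorem quasiCompact_ι [IsLocallyNoetherian X] : QuasiCompact U.ι := inferInstance

theorem isQCoh_secOn [IsLocallyNoetherian X] (M : X.Modules) (hM : Coh.IsQCoh M) :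
    Coh.IsQCoh (secOn U M) := by
  obtain ⟨e, -⟩ := exists_secOn_iso U M
  have : M.IsQuasicoherent := hM
  have := quasiCompact_ι U
  have h2 : ((Scheme.Modules.pushforward U.ι).obj ((Scheme.Modules.restrictFunctor U.ι).obj M)).IsQuasicoherent :=
    QCoh.isQuasicoherent_pushforward U.ι (M.restrict U.ι)
  have : ((CategoryTheory.Functor.id X.Modules).obj M).IsQuasicoherent := hM
  have : ((Scheme.Modules.restrictFunctor U.ι ⋙ Scheme.Modules.pushforward U.ι).obj M).IsQuasicoherent := h2
  exact (SheafOfModules.isQuasicoherent X.ringCatSheaf).prop_of_iso e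
    (QCoh.isQuasicoherent_kernel ((Scheme.Modules.restrictAdjunction U.ι).unit.app M))

/-- A section vanishing on `U` is a section of `Γ_Z`. -/
theorem exists_app_secOnι_eq (M : X.Modules) {V : X.Opens} (s : Γ(M, V))
    (h : ∀ (y : X) (hy : y ∈ V), y ∈ U → germM M V y hy s = 0) :
    ∃ a : Γ(secOn U M, V), (secOnι U M).app V a = s := by
  obtain ⟨e, he⟩ := exists_secOn_iso U M
  let u := (Scheme.Modules.restrictAdjunction U.ι).unit.app M
  let Sq := ShortComplex.mk (kernel.ι u) u (kernel.condition u)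
  have hex : Sq.Exact := ShortComplex.exact_of_f_is_kernel _ (kernelIsKernel u)
  have : Mono Sq.f := inferInstanceAs (Mono (kernel.ι u))
  have hu : u.app V s = 0 := by
    rw [Scheme.Modules.restrictAdjunction_unit_app_app]
    change M.presheaf.map _ s = 0
    refine TopCat.Presheaf.section_ext ⟨M.presheaf, M.isSheaf⟩ _ _ 0 fun y hy => ?_
    refine Eq.trans ?_ (map_zero (M.presheaf.germ _ y hy).hom).symm
    obtain ⟨z, hz, rfl⟩ := hy
    exact (M.presheaf.germ_res_apply _ _ _ s).trans (h _ hz z.2)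
  obtain ⟨a, ha⟩ := QCoh.exists_app_eq_of_app_eq_zero Sq hex V s hu
  exact ⟨e.hom.app V a, (congrArg (fun ψ => Scheme.Modules.Hom.app ψ V a) he).trans ha⟩

/-- The internal Hom out of a coherent module preserves quasi-coherence. -/
theorem isQCoh_homF [IsLocallyNoetherian X] (F : X.Modules) (hF : Coh.IsCoh F)
    [ModSite.HasSheafHom (O := X.sheaf) F] (M : X.Modules) (hM : Coh.IsQCoh M) :
    Coh.IsQCoh ((InjMod.homF F).obj M) := by
  have hFP := HomShQC.isFP_of_isCoh F hF
  have hiso : IsIso (InjMod.homShTo F M) := InjMod.isIso_homShTo F M hFP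
  exact (SheafOfModules.isQuasicoherent X.ringCatSheaf).prop_of_iso (@asIso _ _ _ _ (InjMod.homShTo F M) hiso)
    (HomShQC.isQuasicoherent_homSh F M hFP hM)

end Groth.Agent.ExtZShLib
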