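import Groth.Agent.ExtZShLib.QCohRes
import Groth.Agent.ExtZShLib.SectOn
import Groth.Agent.ZClosLib.StalkCrit
import Groth.Agent.InjMod.StalkExt
import Mathlib.Algebra.Homology.ShortComplex.ModuleCat
import Mathlib.Algebra.Homology.DerivedCategory.Ext.EnoughInjectives

/-!
# Stalks of Ext sheaves with supports
-/

set_option autoImplicit false
set_option linter.style.haveILetI false

universe u

open CategoryTheory CategoryTheory.Limits AlgebraicGeometry Opposite TopologicalSpace
open Groth.Agent.PullStalk.Sky Groth.Agent.AssSch.Stalk Groth.Agent.InjMod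
open Groth.Agent.KFlat.StalkTensor (stalk_map_injective)

noncomputable section

namespace Groth.Agent.ExtZShLib

variable {X : Scheme.{u}} (U : X.Opens)

/-- The closed complement. -/
abbrev cplClosed : Closeds X := ⟨(U : Set X)ᶜ, U.isOpen.isClosed_compl⟩

/-- The ideal of the complement at a point of an affine open. -/
def idAt {V : X.Opens} (hV : IsAffineOpen V) {x : X} (hx : x ∈ V) : Ideal (X.presheaf.stalk x) :=
  (ZClosLib.StalkCrit.affineIdeal hV (cplClosed U)).map (X.presheaf.germ V x hx).hom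

section Range

variable [IsLocallyNoetherian X] {M : X.Modules} (hM : Coh.IsQCoh M) {V : X.Opens}
  (hV : IsAffineOpen V) {x : X} (hx : x ∈ V)

include hM in
/-- Stalks of `Γ_Z`: the elements killed by a power of the ideal of `Z`. -/
theorem mem_range_stL_secOnι (t : M.presheaf.stalk x) :
    t ∈ LinearMap.range (stL (secOnι U M) x) ↔
      ∃ k : ℕ, ∀ r ∈ idAt U hV hx ^ k, r • t = 0 := by
  have : M.IsQuasicoherent := hM
  have : (secOn U M).IsQuasicoherent := isQCoh_secOn U M hM
  have : IsNoetherianRing Γ(X, V) := isNoetherianRing_of_isAffineOpen hV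
  let I := ZClosLib.StalkCrit.affineIdeal hV (cplClosed U)
  constructor
  · rintro ⟨t', rfl⟩
    obtain ⟨g, a, hg, hga⟩ := exists_germ_smul_eq (secOn U M) hV x hx t'
    let m := (secOnι U M).app V a
    have hrad : I ≤ (Module.annihilator Γ(X, V) (Submodule.span Γ(X, V) {m})).radical := fun f hf => by
      have h0 : QCoh.res M (X.basicOpen_le f) m = 0 := by
        refine TopCat.Presheaf.section_ext ⟨M.presheaf, M.isSheaf⟩ _ _ 0 fun y hy => ?_
        refine Eq.trans ?_ (map_zero (M.presheaf.germ _ y hy).hom).symm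
        have hyU : y ∈ U := by
          by_contra hn
          exact (ZClosLib.StalkCrit.basicOpen_le_compl hV (cplClosed U) hf hy).2 hn
        refine (M.presheaf.germ_res_apply (homOfLE (X.basicOpen_le f)) y hy m).trans ?_
        refine ((stL_germ (secOnι U M) y V (X.basicOpen_le f hy) a).symm).trans ?_
        rw [stL_secOnι_eq_zero U M hyU]
        rfl
      obtain ⟨n, hn⟩ := (QCoh.isLocalizingAt M hV f).eq_zero m h0
      refine ⟨n, Module.mem_annihilator.2 fun ⟨w, hw⟩ => Subtype.ext ?_⟩
      obtain ⟨c, rfl⟩ := Submodule.mem_span_singleton.1 hw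
      change f ^ n • c • m = 0
      rw [smul_comm, hn, smul_zero]
    obtain ⟨k, hk⟩ := Ideal.exists_pow_le_of_le_radical_of_fg hrad (IsNoetherian.noetherian I)
    refine ⟨k, fun r hr => ?_⟩
    rw [idAt, ← Ideal.map_pow] at hr
    refine ((isUnit_germ_iff hV x hx g).mpr hg).smul_left_cancel.mp ?_
    rw [smul_zero, smul_comm, ← map_smul, hga, stL_germ]
    induction hr using Submodule.span_induction with
    | mem c hc =>
      obtain ⟨b, hb, rfl⟩ := hc
      have hbm : b • m = 0 := congrArg Subtype.val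
        (Module.mem_annihilator.1 (hk hb) ⟨m, Submodule.mem_span_singleton_self m⟩)
      exact (germM_smul M V x hx b m).symm.trans ((congrArg (germM M V x hx) hbm).trans (AssSch.Stalk.germM_zero M x hx))
    | zero => exact zero_smul _ _
    | add b c _ _ hb hc => rw [add_smul, hb, hc, add_zero]
    | smul d b _ hb => rw [smul_eq_mul, mul_smul, hb, smul_zero]
  · rintro ⟨k, hk⟩
    obtain ⟨g, m, hg, hgm⟩ := exists_germ_smul_eq M hV x hx t
    obtain ⟨T, hT⟩ := IsNoetherian.noetherian (I ^ k)
    have hex : ∀ b : T, ∃ h : Γ(X, V), h ∉ primeOf hV x hx ∧ h • (b : Γ(X, V)) • m = 0 := fun b => by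
      refine (germM_eq_zero_iff M hV x hx _).1 ?_
      have hb : (b : Γ(X, V)) ∈ I ^ k := hT ▸ Submodule.subset_span b.2
      have hb' : X.presheaf.germ V x hx (b : Γ(X, V)) ∈ idAt U hV hx ^ k := by
        rw [idAt, ← Ideal.map_pow]
        exact Ideal.mem_map_of_mem _ hb
      rw [germM_smul, ← hgm, smul_comm, hk _ hb', smul_zero]
    choose h hh hh0 using hex
    classical
    let H := ∏ b : T, h b
    have hH : H ∉ primeOf hV x hx := fun hc => by
      obtain ⟨b, -, hb⟩ := (Ideal.IsPrime.prod_mem_iff (p := primeOf hV x hx)).1 hc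
      exact hh b hb
    have hkill : ∀ b ∈ I ^ k, b • H • m = 0 := fun b hb => by
      rw [← hT] at hb
      induction hb using Submodule.span_induction with
      | mem c hc =>
        have : H = (∏ b ∈ Finset.univ.erase (⟨c, hc⟩ : T), h b) * h ⟨c, hc⟩ :=
          (Finset.prod_erase_mul _ _ (Finset.mem_univ _)).symm
        rw [smul_comm, this, mul_smul, hh0 ⟨c, hc⟩, smul_zero]
      | zero => exact zero_smul _ _
      | add b c _ _ hb hc => rw [add_smul, hb, hc, add_zero]
      | smul d b _ hb => rw [smul_eq_mul, mul_smul, hb, smul_zero]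
    obtain ⟨a, ha⟩ := exists_app_secOnι_eq U M (H • m) fun y hy hyU => by
      obtain ⟨f, hf, hyf⟩ : ∃ f ∈ I, y ∈ X.basicOpen f := by
        obtain ⟨⟨f, hf⟩, hyf⟩ := Opens.mem_iSup.mp
          (ZClosLib.StalkCrit.le_iSup_basicOpen hV (cplClosed U) ⟨hy, fun hn => hn hyU⟩)
        exact ⟨f, hf, hyf⟩
      have h1 := congrArg (germM M V y hy) (hkill (f ^ k) (Ideal.pow_mem_pow hf k))
      rw [germM_smul, map_pow, AssSch.Stalk.germM_zero] at h1
      exact (((X.mem_basicOpen f y hy).mp hyf).pow k).smul_eq_zero.mp h1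
    obtain ⟨u, hu⟩ := ((isUnit_germ_iff hV x hx H).mpr hH).mul ((isUnit_germ_iff hV x hx g).mpr hg)
    refine ⟨(↑u⁻¹ : X.presheaf.stalk x) • germM (secOn U M) V x hx a, ?_⟩
    rw [map_smul, stL_germ, ha, germM_smul, ← hgm, ← mul_smul (X.presheaf.germ V x hx H), ← hu,
      smul_smul, u.inv_mul, one_smul]

end Range

variable (F : X.Modules) [ModSite.HasSheafHom (O := X.sheaf) F]

/-- `N ↦ Γ_Z ℋom(F, N)`. -/
abbrev TZ : X.Modules ⥤ X.Modules :=
  InjMod.homF F ⋙ ModSite.sectOn (O := X.sheaf) U

instance additive_TZ : (TZ U F).Additive := by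
  have : (InjMod.homF F).Additive := ModSite.sheafHom_additive X.sheaf F
  refine ⟨fun {A B f g} => ?_⟩
  exact (congrArg (ModSite.sectOn (O := X.sheaf) U).map (InjMod.homF F).map_add).trans
    (ModSite.sectOn_additive X.sheaf U).map_add

theorem TZ_map_ι {M N : X.Modules} (φ : M ⟶ N) :
    (TZ U F).map φ ≫ secOnι U ((InjMod.homF F).obj N) =
      secOnι U ((InjMod.homF F).obj M) ≫ (InjMod.homF F).map φ :=
  (ModSite.sectOnι (O := X.sheaf) U).naturality ((InjMod.homF F).map φ)

variable [IsLocallyNoetherian X] (hF : Coh.IsCoh F) {V : X.Opens} (hV : IsAffineOpen V) {x : X}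
  (hx : x ∈ V)

/-- The homomorphism on stalks given by an element of the stalk of `Γ_Z ℋom`. -/
def toHom {M : X.Modules} (t : ((TZ U F).obj M).presheaf.stalk x) :
    F.presheaf.stalk x →ₗ[X.presheaf.stalk x] M.presheaf.stalk x :=
  evStalk F M x (stL (secOnι U ((InjMod.homF F).obj M)) x t)

theorem stL_secOnι_TZ_map {M N : X.Modules} (φ : M ⟶ N) (t : ((TZ U F).obj M).presheaf.stalk x) :
    stL (secOnι U ((InjMod.homF F).obj N)) x (stL ((TZ U F).map φ) x t) =
      stL ((InjMod.homF F).map φ) x (stL (secOnι U ((InjMod.homF F).obj M)) x t) :=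
  (LinearMap.congr_fun (stL_comp ((TZ U F).map φ) (secOnι U ((InjMod.homF F).obj N)) x) t).symm.trans
    ((LinearMap.congr_fun (congrArg (stL · x) (TZ_map_ι U F φ)) t).trans
      (LinearMap.congr_fun (stL_comp (secOnι U ((InjMod.homF F).obj M)) ((InjMod.homF F).map φ) x) t))

theorem toHom_map {M N : X.Modules} (φ : M ⟶ N) (t : ((TZ U F).obj M).presheaf.stalk x) :
    toHom U F (stL ((TZ U F).map φ) x t) = (stL φ x).comp (toHom U F t) :=
  (congrArg (fun s => evStalk F N x s) (stL_secOnι_TZ_map U F φ t)).trans (evStalk_natural φ _)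

include hF in
theorem toHom_injective (M : X.Modules) : Function.Injective (toHom U F (x := x) (M := M)) :=
  (evStalk_bijective_of_isFP F M (HomShQC.isFP_of_isCoh F hF) x).1.comp
    (stalk_map_injective x (secOnι U ((InjMod.homF F).obj M)))

theorem toHom_zero (M : X.Modules) : toHom U F (0 : ((TZ U F).obj M).presheaf.stalk x) = 0 := by
  simp [toHom]

include hF in
theorem toHom_eq_evStalk_iff {M : X.Modules} (t : ((TZ U F).obj M).presheaf.stalk x)
    (s : ((InjMod.homF F).obj M).presheaf.stalk x) :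
    toHom U F t = evStalk F M x s ↔ stL (secOnι U ((InjMod.homF F).obj M)) x t = s := by
  unfold toHom
  exact (evStalk_bijective_of_isFP F M (HomShQC.isFP_of_isCoh F hF) x).1.eq_iff

include hF in
theorem exists_toHom_eq_iff {M : X.Modules} (hM : Coh.IsQCoh M)
    (φ : F.presheaf.stalk x →ₗ[X.presheaf.stalk x] M.presheaf.stalk x) :
    (∃ t, toHom U F t = φ) ↔ ∃ k : ℕ, ∀ r ∈ idAt U hV hx ^ k, r • φ = 0 := by
  have hb := evStalk_bijective_of_isFP F M (HomShQC.isFP_of_isCoh F hF) x
  obtain ⟨s, rfl⟩ := hb.2 φ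
  have key : (∃ t, toHom U F t = evStalk F M x s) ↔
      s ∈ LinearMap.range (stL (secOnι U ((InjMod.homF F).obj M)) x) :=
    (exists_congr fun t => (toHom_eq_evStalk_iff U F hF t s)).trans
      (LinearMap.mem_range (f := stL (secOnι U ((InjMod.homF F).obj M)) x) (x := s)).symm
  rw [key, mem_range_stL_secOnι U (isQCoh_homF F hF M hM) hV hx]
  constructor
  · rintro ⟨k, h⟩
    exact ⟨k, fun r hr => (map_smul (evStalk F M x) r s).symm.trans
      ((congrArg (evStalk F M x) (h r hr)).trans (map_zero (evStalk F M x)))⟩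
  · rintro ⟨k, h⟩
    exact ⟨k, fun r hr => hb.1 ((map_smul (evStalk F M x) r s).trans
      ((h r hr).trans (map_zero (evStalk F M x)).symm))⟩

/-- The quotient `F_x / a^k F_x`. -/
abbrev quotN (a : Ideal (X.presheaf.stalk x)) (k : ℕ) : Type u :=
  F.presheaf.stalk x ⧸ (a ^ k • ⊤ : Submodule (X.presheaf.stalk x) (F.presheaf.stalk x))

theorem exists_factor {a : Ideal (X.presheaf.stalk x)} {k : ℕ} {P : Type u} [AddCommGroup P]
    [Module (X.presheaf.stalk x) P] (φ : F.presheaf.stalk x →ₗ[X.presheaf.stalk x] P)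
    (h : ∀ r ∈ a ^ k, r • φ = 0) :
    ∃ ψ : quotN F a k →ₗ[X.presheaf.stalk x] P, ψ.comp (Submodule.mkQ _) = φ := by
  refine ⟨Submodule.liftQ _ φ (Submodule.smul_le.2 fun r hr m _ => ?_), Submodule.liftQ_mkQ _ _ _⟩
  rw [LinearMap.mem_ker, map_smul]
  exact LinearMap.congr_fun (h r hr) m

theorem smul_comp_mkQ {a : Ideal (X.presheaf.stalk x)} {k : ℕ} {P : Type u} [AddCommGroup P]
    [Module (X.presheaf.stalk x) P] (ψ : quotN F a k →ₗ[X.presheaf.stalk x] P) :
    ∀ r ∈ a ^ k, r • ψ.comp (Submodule.mkQ _) = 0 := fun r hr => LinearMap.ext fun m => by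
  rw [LinearMap.smul_apply, LinearMap.comp_apply, ← map_smul, ← map_smul, Submodule.mkQ_apply,
    (Submodule.Quotient.mk_eq_zero _).2 (Submodule.smul_mem_smul hr Submodule.mem_top), map_zero]
  rfl

variable [EnoughInjectives X.Modules] (G : {M : X.Modules // Coh.IsQCoh M})

/-- The stalks of the cosyzygy sequence. -/
theorem stalkSeq_shortExact (x : X) (n : ℕ) :
    ((ShortComplex.mk _ _ (emb_proj G n)).map (DerSch.stalkFunctor X x)).ShortExact := by
  have : (DerSch.stalkFunctor X x).PreservesHomology := KFlat.StalkTensor.preservesHomology_stalkFunctor x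
  have : PreservesFiniteLimits (DerSch.stalkFunctor X x) :=
    Functor.preservesFiniteLimits_of_preservesHomology _
  have : PreservesFiniteColimits (DerSch.stalkFunctor X x) :=
    Functor.preservesFiniteColimits_of_preservesHomology _
  exact (syzSeq_shortExact G n).map_of_exact (DerSch.stalkFunctor X x)

theorem injective_stalk_hull (x : X) (n : ℕ) :
    Injective ((DerSch.stalkFunctor X x).obj (hull (syz G n)).1) := by
  have := stalk_injective (hull (syz G n)).1 inferInstance x
  exact Module.injective_object_of_injective_module _ ((hull (syz G n)).1.presheaf.stalk x)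

/-- Dimension shift along a sequence with injective middle term. -/
theorem subsingleton_ext_X₃ {R : Type u} [CommRing R] {S : ShortComplex (ModuleCat.{u} R)}
    (hS : S.ShortExact) (hI : Injective S.X₂) (N : ModuleCat.{u} R) (j : ℕ)
    (h : Subsingleton (Abelian.Ext N S.X₁ (j + 1 + 1))) :
    Subsingleton (Abelian.Ext N S.X₃ (j + 1)) := by
  refine subsingleton_of_forall_eq 0 fun e => ?_
  obtain ⟨e₂, rfl⟩ := Abelian.Ext.covariant_sequence_exact₃ (n₁ := j + 1 + 1) N hS e rfl
    (Subsingleton.elim _ _)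
  rw [Abelian.Ext.eq_zero_of_injective e₂, Abelian.Ext.zero_comp]

/-- Lifting along a short exact sequence when `Ext¹` vanishes. -/
theorem exists_lift_of_ext_one {R : Type u} [CommRing R] {S : ShortComplex (ModuleCat.{u} R)}
    (hS : S.ShortExact) (N : ModuleCat.{u} R) (h : Subsingleton (Abelian.Ext N S.X₁ (0 + 1)))
    (φ : N ⟶ S.X₃) : ∃ ψ : N ⟶ S.X₂, ψ ≫ S.g = φ := by
  obtain ⟨e₂, he⟩ := Abelian.Ext.covariant_sequence_exact₃ (n₁ := 0 + 1) N hS
    (Abelian.Ext.mk₀ φ) rfl (Subsingleton.elim _ _)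
  obtain ⟨ψ, rfl⟩ := (Abelian.Ext.mk₀_bijective _ _).2 e₂
  exact ⟨ψ, (Abelian.Ext.mk₀_bijective _ _).1 (by rw [← he, Abelian.Ext.mk₀_comp_mk₀])⟩

theorem subsingleton_ext_syz (N : ModuleCat.{u} (X.presheaf.stalk x)) :
    ∀ (m j : ℕ), Subsingleton (Abelian.Ext N ((DerSch.stalkFunctor X x).obj G.1) (j + 1 + m)) →
      Subsingleton (Abelian.Ext N ((DerSch.stalkFunctor X x).obj (syz G m).1) (j + 1)) := by
  intro m
  induction m with
  | zero => intro j h; exact h
  | succ m ih =>
    intro j h
    exact subsingleton_ext_X₃ (stalkSeq_shortExact G x m) (injective_stalk_hull G x m) N j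
      (ih (j + 1) (by rwa [show j + 1 + 1 + m = j + 1 + (m + 1) by omega]))

/-- Lifting along the cosyzygy sequence. -/
theorem exists_lift {m : ℕ} (N : ModuleCat.{u} (X.presheaf.stalk x))
    (h : Subsingleton (Abelian.Ext N ((DerSch.stalkFunctor X x).obj G.1) (m + 1)))
    (φ : N ⟶ (DerSch.stalkFunctor X x).obj (syz G (m + 1)).1) :
    ∃ ψ : N ⟶ (DerSch.stalkFunctor X x).obj (hull (syz G m)).1,
      ψ ≫ (DerSch.stalkFunctor X x).map (proj G m) = φ :=
  exists_lift_of_ext_one (stalkSeq_shortExact G x m) N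
    (subsingleton_ext_syz G N m 0 (by rwa [show 0 + 1 + m = m + 1 by omega])) φ

theorem stL_diff (n : ℕ) :
    stL (diff G n) x = (stL (emb (syz G (n + 1))) x).comp (stL (proj G n) x) := stL_comp _ _ x

include hF in
/-- The stalk of an Ext sheaf with supports vanishes if the Ext modules of the quotients
`F_x / a^k F_x` vanish. -/
theorem subsingleton_stalk_extZ [HasInjectiveResolutions X.Modules] (n : ℕ)
    (h : ∀ k : ℕ, Subsingleton (Abelian.Ext (ModuleCat.of (X.presheaf.stalk x) (quotN F (idAt U hV hx) k))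
      ((DerSch.stalkFunctor X x).obj G.1) n)) :
    Subsingleton ((((TZ U F).rightDerived n).obj G.1).presheaf.stalk x) := by
  let S := DerSch.stalkFunctor X x
  have : S.PreservesHomology := KFlat.StalkTensor.preservesHomology_stalkFunctor x
  let C := ((TZ U F).mapHomologicalComplex (ComplexShape.up ℕ)).obj (qcohRes G).cocomplex
  suffices hz : ((C.sc n).map S).Exact by
    have h0 : IsZero (S.obj (C.homology n)) :=
      ((ShortComplex.exact_iff_isZero_homology _).1 hz).of_iso ((C.sc n).mapHomologyIso S).symm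
    exact ModuleCat.subsingleton_of_isZero (h0.of_iso (S.mapIso ((qcohRes G).isoRightDerivedObj (TZ U F) n)))
  -- an element killed by the differential comes from a homomorphism into the cosyzygy
  have kernelLift : ∀ (p : ℕ) (t : ((TZ U F).obj (hull (syz G p)).1).presheaf.stalk x),
      stL ((TZ U F).map (diff G p)) x t = 0 →
      ∃ (k : ℕ) (φ : quotN F (idAt U hV hx) k →ₗ[X.presheaf.stalk x] (syz G p).1.presheaf.stalk x),
        (stL (emb (syz G p)) x).comp (φ.comp (Submodule.mkQ _)) = toHom U F t := by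
    intro p t ht
    obtain ⟨k, hk⟩ := (exists_toHom_eq_iff U F hF hV hx (hull (syz G p)).2 (toHom U F t)).1 ⟨t, rfl⟩
    obtain ⟨ψ, hψ⟩ := exists_factor F (toHom U F t) hk
    have h1 := toHom_map U F (diff G p) t
    rw [ht, toHom_zero U F, stL_diff] at h1
    have h2 : (stL (proj G p) x).comp (toHom U F t) = 0 := by
      refine LinearMap.ext fun v => stalk_map_injective x (emb (syz G (p + 1))) ?_
      exact ((LinearMap.congr_fun h1 v).symm.trans (map_zero (stL (emb (syz G (p + 1))) x)).symm)
    have hex := (ShortComplex.moduleCat_exact_iff _).1 (stalkSeq_shortExact G x p).exact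
    have hr : LinearMap.range ψ ≤ LinearMap.range (stL (emb (syz G p)) x) := by
      rintro _ ⟨v, rfl⟩
      obtain ⟨w, rfl⟩ := Submodule.mkQ_surjective _ v
      refine hex _ ?_
      exact (congrArg (stL (proj G p) x) (LinearMap.congr_fun hψ w)).trans (LinearMap.congr_fun h2 w)
    have hinj : Function.Injective (stL (emb (syz G p)) x) := stalk_map_injective x (emb (syz G p))
    let φ := (LinearEquiv.ofInjective _ hinj).symm.toLinearMap.comp
      ((Submodule.inclusion hr).comp ψ.rangeRestrict)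
    refine ⟨k, φ, LinearMap.ext fun w => ?_⟩
    have h3 := LinearEquiv.apply_symm_apply (LinearEquiv.ofInjective _ hinj)
      ((Submodule.inclusion hr).comp ψ.rangeRestrict (Submodule.Quotient.mk w))
    exact (congrArg Subtype.val h3).trans (LinearMap.congr_fun hψ w)
  rw [ShortComplex.moduleCat_exact_iff]
  cases n with
  | zero =>
    intro t ht
    have ht' : stL ((TZ U F).map (diff G 0)) x t = 0 := by
      rw [← qcohRes_d G 0]
      have hn : (ComplexShape.up ℕ).next 0 = 1 := CochainComplex.next ℕ 0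
      revert ht
      change (S.map (C.d 0 ((ComplexShape.up ℕ).next 0))).hom t = 0 → _
      rw [hn]
      exact id
    obtain ⟨k, φ, hφ⟩ := kernelLift 0 t ht'
    have hz : φ = 0 := by
      have hh : Subsingleton (ModuleCat.of (X.presheaf.stalk x) (quotN F (idAt U hV hx) k) ⟶
          (DerSch.stalkFunctor X x).obj G.1) :=
        @Equiv.subsingleton _ _ Abelian.Ext.addEquiv₀.toEquiv.symm (h k)
      exact congrArg ModuleCat.Hom.hom (@Subsingleton.elim _ hh (ModuleCat.ofHom φ) 0)
    refine ⟨0, (map_zero _).trans ?_⟩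
    refine toHom_injective U F hF (hull (syz G 0)).1 ?_
    refine (toHom_zero U F _).trans (Eq.trans ?_ hφ)
    rw [hz]
    simp
  | succ m =>
    intro t ht
    have ht' : stL ((TZ U F).map (diff G (m + 1))) x t = 0 := by
      rw [← qcohRes_d G (m + 1)]
      have hn : (ComplexShape.up ℕ).next (m + 1) = m + 2 := CochainComplex.next ℕ (m + 1)
      revert ht
      change (S.map (C.d (m + 1) ((ComplexShape.up ℕ).next (m + 1)))).hom t = 0 → _
      rw [hn]
      exact id
    obtain ⟨k, φ, hφ⟩ := kernelLift (m + 1) t ht'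
    obtain ⟨ψ, hψ⟩ := exists_lift G (ModuleCat.of _ (quotN F (idAt U hV hx) k)) (h k) (ModuleCat.ofHom φ)
    obtain ⟨t₀, ht₀⟩ := (exists_toHom_eq_iff U F hF hV hx (hull (syz G m)).2
      (ψ.hom.comp (Submodule.mkQ _))).2 ⟨k, smul_comp_mkQ F ψ.hom⟩
    have key : stL ((TZ U F).map (diff G m)) x t₀ = t := by
      refine toHom_injective U F hF _ ?_
      rw [toHom_map, ht₀, stL_diff, ← hφ]
      refine LinearMap.ext fun w => ?_
      exact congrArg (stL (emb (syz G (m + 1))) x)
        (congrArg (fun χ => ModuleCat.Hom.hom χ (Submodule.Quotient.mk w)) hψ)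
    have hp : (ComplexShape.up ℕ).prev (m + 1) = m := CochainComplex.prev_nat_succ m
    change ∃ s, (S.map (C.d ((ComplexShape.up ℕ).prev (m + 1)) (m + 1))).hom s = t
    rw [hp]
    refine ⟨t₀, Eq.trans ?_ key⟩
    rw [← qcohRes_d G m]
    rfl

end Groth.Agent.ExtZShLib
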