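import Groth.Agent.ExtZShLib.Stalk
import Groth.Agent.RegLoc.Homological
import Groth.Agent.Depth.Local
import Groth.Agent.Depth.CM
import Groth.Agent.CanonMod.Init
import Groth.Agent.CMCat.Basic
import Groth.Agent.ZClosLib.DepthCrit
import Groth.Agent.FDesc.QuasiFlat
import Groth.Agent.ModShf.GrothAb
import Groth.Agent.ChiPoly.Basic
import Groth.Agent.KoszSh77.Cycles
import Groth.Agent.CohDev.Coh
import Groth.Agent.CohDev.Piece
import Groth.Agent.AssSch.Basic
import Groth.Agent.AssSch.Quot
import Groth.Agent.ProperFin.Supp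

/-!
# Vanishing and quasi-coherence of Ext sheaves with supports
-/

set_option autoImplicit false
set_option linter.style.haveILetI false

universe u

open CategoryTheory CategoryTheory.Limits AlgebraicGeometry Opposite TopologicalSpace
open Groth.Agent.PullStalk.Sky Groth.Agent.AssSch.Stalk Groth.Agent.InjMod
open Groth.Agent.ZClosLib.StalkCrit (stalkPt)

noncomputable section

namespace Groth.Agent.ExtZShLib

theorem subsingleton_ext_of_isZero {C : Type*} [Category C] [Abelian C] [HasExt.{u} C] {N Y : C}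
    (h : IsZero N) (i : ℕ) : Subsingleton (Abelian.Ext N Y i) := by
  refine subsingleton_of_forall_eq 0 fun e => ?_
  rw [← Abelian.Ext.mk₀_id_comp e, h.eq_of_src (𝟙 N) 0, Abelian.Ext.mk₀_zero, Abelian.Ext.zero_comp]

/-- Along a covering step heights in a regular local ring go up by one: primes of every
intermediate height exist. -/
theorem exists_prime_height_between {R : Type u} [CommRing R] [IsRegularLocalRing R]
    {q : PrimeSpectrum R} {n : ℕ} (h1 : q.asIdeal.height ≤ n)
    (h2 : (n : WithBot ℕ∞) ≤ ringKrullDim R) :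
    ∃ r : PrimeSpectrum R, q ≤ r ∧ r.asIdeal.height = n := by
  have := Depth.isCohenMacaulayLocalRing_of_isRegularLocalRing (R := R)
  have := Depth.isCohenMacaulayRing_of_isCohenMacaulayLocalRing (R := R)
  obtain ⟨e, he⟩ := ENat.ne_top_iff_exists.mp (ne_top_of_le_ne_top (ENat.natCast_ne_top n) h1)
  suffices key : ∀ (k : ℕ) (q' : PrimeSpectrum R) (e' : ℕ), q ≤ q' → q'.asIdeal.height = (e' : ℕ∞) →
      e' + k = n → ∃ r : PrimeSpectrum R, q ≤ r ∧ r.asIdeal.height = n from
    key (n - e) q e le_rfl he.symm (by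
      have : e ≤ n := by rw [← he] at h1; exact_mod_cast h1
      omega)
  intro k
  induction k with
  | zero => intro q' e' hqq h' hn; exact ⟨q', hqq, by rw [h']; exact_mod_cast hn⟩
  | succ k ih =>
    intro q' e' hqq h' hn
    have hm : q' < IsLocalRing.closedPoint R := by
      refine lt_of_le_of_ne (IsLocalRing.le_maximalIdeal q'.isPrime.ne_top) fun e => ?_
      rw [e] at h'
      have h3 := IsLocalRing.maximalIdeal_height_eq_ringKrullDim (R := R)
      rw [← h3] at h2
      have h4 := WithBot.coe_le_coe.mp h2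
      rw [show (IsLocalRing.maximalIdeal R).height = (e' : ℕ∞) from h'] at h4
      have : n ≤ e' := by exact_mod_cast h4
      omega
    let S : Set ℕ := {m | ∃ r : PrimeSpectrum R, q' < r ∧ r.asIdeal.height = (m : ℕ∞)}
    have hS : S.Nonempty := by
      obtain ⟨m, hm'⟩ := ENat.ne_top_iff_exists.mp
        ((IsLocalRing.closedPoint R).asIdeal.height_lt_top Ideal.IsPrime.ne_top').ne
      exact ⟨m, _, hm, hm'.symm⟩
    obtain ⟨r', hr', hm'⟩ := Nat.sInf_mem hS
    have hcov : q' ⋖ r' := ⟨hr', fun s hs1 hs2 => by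
      obtain ⟨m, hsm⟩ := ENat.ne_top_iff_exists.mp (s.asIdeal.height_lt_top Ideal.IsPrime.ne_top').ne
      have hlt : s.asIdeal.height < r'.asIdeal.height :=
        Ideal.height_strict_mono_of_isPrime_of_isPrime hs2
      rw [← hsm, hm'] at hlt
      have h5 : m < sInf S := by exact_mod_cast hlt
      exact Nat.notMem_of_lt_sInf h5 ⟨s, hs1, hsm.symm⟩⟩
    have hh := CMCat.height_covBy_of_cmRing hcov
    exact ih r' (e' + 1) (hqq.trans hr'.le) (by rw [hh, h']; rfl) (by omega)

variable {X : Scheme.{u}} [IsLocallyNoetherian X]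

/-- The dimension of the local ring at a generization. -/
theorem ringKrullDim_stalkPt (x : X) (q : PrimeSpectrum (X.presheaf.stalk x)) :
    ringKrullDim (X.presheaf.stalk (stalkPt x q)) = (q.asIdeal.height : WithBot ℕ∞) := by
  obtain ⟨V, hV, hx, -⟩ := exists_isAffineOpen_mem_and_subset (X := X) (x := x) (U := ⊤) trivial
  let p : PrimeSpectrum Γ(X, V) := PrimeSpectrum.comap (X.presheaf.germ V x hx).hom q
  have hy : stalkPt x q = ZClosLib.StalkCrit.affinePt hV p := ZClosLib.StalkCrit.stalkPt_eq hV hx q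
  have hyV : ZClosLib.StalkCrit.affinePt hV p ∈ V := hV.range_fromSpec.le ⟨p, rfl⟩
  have hp : hV.primeIdealOf ⟨_, hyV⟩ = p :=
    hV.fromSpec.isOpenEmbedding.injective (hV.fromSpec_primeIdealOf ⟨_, hyV⟩)
  let _ := X.presheaf.algebra_section_stalk ⟨_, hyV⟩
  have := hV.isLocalization_stalk ⟨_, hyV⟩
  rw [hy, IsLocalization.AtPrime.ringKrullDim_eq_height (hV.primeIdealOf ⟨_, hyV⟩).asIdeal]
  rw [hp]
  let _ := X.presheaf.algebra_section_stalk ⟨x, hx⟩
  have := hV.isLocalization_stalk ⟨x, hx⟩
  exact congrArg _ (IsLocalization.height_under (hV.primeIdealOf ⟨x, hx⟩).asIdeal.primeCompl q.asIdeal)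

variable (U : X.Opens) (F : X.Modules) [ModSite.HasSheafHom (O := X.sheaf) F] (hF : Coh.IsCoh F)
  [HasInjectiveResolutions X.Modules] {G : X.Modules} (hG : Coh.IsQCoh G)

include hF hG in
/-- Ext sheaves with supports in quasi-coherent modules are quasi-coherent. -/
theorem isQCoh_rightDerived_TZ (i : ℕ) : Coh.IsQCoh (((TZ U F).rightDerived i).obj G) := by
  let C := ((TZ U F).mapHomologicalComplex (ComplexShape.up ℕ)).obj (qcohRes ⟨G, hG⟩).cocomplex
  have hC : ∀ p, (C.X p).IsQuasicoherent := fun p =>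
    isQCoh_secOn U _ (isQCoh_homF F hF _ (hull (syz ⟨G, hG⟩ p)).2)
  have hd : ∀ p q, (kernel (C.d p q)).IsQuasicoherent := fun p q => by
    have := hC p
    have := hC q
    exact QCoh.isQuasicoherent_kernel (C.d p q)
  have hcyc : (C.cycles i).IsQuasicoherent :=
    (SheafOfModules.isQuasicoherent X.ringCatSheaf).prop_of_iso
      (((C.cyclesIsKernel i _ rfl).conePointUniqueUpToIso
        (kernelIsKernel (C.d i ((ComplexShape.up ℕ).next i)))).symm :
        kernel (C.d i ((ComplexShape.up ℕ).next i)) ≅ C.cycles i) (hd _ _)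
  have hcok : (cokernel (C.toCycles ((ComplexShape.up ℕ).prev i) i)).IsQuasicoherent := by
    have := hC ((ComplexShape.up ℕ).prev i)
    exact QCoh.isQuasicoherent_cokernel _
  have hh : (C.homology i).IsQuasicoherent :=
    (SheafOfModules.isQuasicoherent X.ringCatSheaf).prop_of_iso
      (((C.homologyIsCokernel ((ComplexShape.up ℕ).prev i) i rfl).coconePointUniqueUpToIso
        (cokernelIsCokernel (C.toCycles ((ComplexShape.up ℕ).prev i) i))).symm :
        cokernel (C.toCycles ((ComplexShape.up ℕ).prev i) i) ≅ C.homology i) hcok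
  exact (SheafOfModules.isQuasicoherent X.ringCatSheaf).prop_of_iso
    ((qcohRes ⟨G, hG⟩).isoRightDerivedObj (TZ U F) i).symm hh

include hF hG in
theorem subsingleton_stalk_of_mem_or (i : ℕ) {x : X} (hx : x ∈ U ∨ x ∉ CohB1.support F) :
    Subsingleton ((((TZ U F).rightDerived i).obj G).presheaf.stalk x) := by
  obtain ⟨V, hV, hxV, -⟩ := exists_isAffineOpen_mem_and_subset (X := X) (x := x) (U := ⊤) trivial
  refine subsingleton_stalk_extZ U F hF hV hxV ⟨G, hG⟩ i fun k => subsingleton_ext_of_isZero ?_ i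
  have : Subsingleton (quotN F (idAt U hV hxV) k) := by
    rcases hx with hx | hx
    · obtain ⟨⟨f, hf⟩, hfx⟩ := Opens.mem_iSup.mp
        (ZClosLib.StalkCrit.le_iSup_basicOpen hV (cplClosed U) ⟨hxV, fun h => h hx⟩)
      have htop : idAt U hV hxV = ⊤ := Ideal.eq_top_of_isUnit_mem _ (Ideal.mem_map_of_mem _ hf)
        ((X.mem_basicOpen f x hxV).mp hfx)
      rw [Submodule.Quotient.subsingleton_iff, htop, Ideal.top_pow, Submodule.top_smul]
    · have : Subsingleton (F.presheaf.stalk x) := not_not.mp hx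
      exact (Submodule.mkQ_surjective _).subsingleton
  exact ModuleCat.isZero_of_subsingleton _

include hF hG in
theorem subsingleton_stalk_of_dim_lt {i : ℕ} {x : X} [IsRegularLocalRing (X.presheaf.stalk x)]
    (hi : ringKrullDim (X.presheaf.stalk x) < (i : WithBot ℕ∞)) :
    Subsingleton ((((TZ U F).rightDerived i).obj G).presheaf.stalk x) := by
  obtain ⟨V, hV, hxV, -⟩ := exists_isAffineOpen_mem_and_subset (X := X) (x := x) (U := ⊤) trivial
  obtain ⟨d, hd, -⟩ := RegLoc.exists_natCast_eq_ringKrullDim (X.presheaf.stalk x)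
  rw [hd] at hi
  have hdi : d + 1 ≤ i := by exact_mod_cast hi
  refine subsingleton_stalk_extZ U F hF hV hxV ⟨G, hG⟩ i fun k => ?_
  have := RegLoc.Homological.pd_le_dim hd (quotN F (idAt U hV hxV) k)
  exact HasProjectiveDimensionLT.subsingleton _ (d + 1) i hdi _

variable {F} in
include hF in
/-- Vanishing below the depth along `Z ∩ Supp F`. -/
theorem subsingleton_stalk_of_depth (hGc : Coh.IsCoh G) {n i : ℕ} (hi : i < n) {x : X}
    (hd : ∀ y, y ⤳ x → y ∉ U → y ∈ CohB1.support F →
      (n : ℕ∞) ≤ LocCoh.depth (X.presheaf.stalk y) (G.presheaf.stalk y)) :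
    Subsingleton ((((TZ U F).rightDerived i).obj G).presheaf.stalk x) := by
  obtain ⟨V, hV, hxV, -⟩ := exists_isAffineOpen_mem_and_subset (X := X) (x := x) (U := ⊤) trivial
  refine subsingleton_stalk_extZ U F hF hV hxV ⟨G, hGc.1⟩ i fun k => ?_
  have := FDesc.QuasiFlat.finite_stalk_of_isCoh G hGc x
  have := FDesc.QuasiFlat.finite_stalk_of_isCoh F hF x
  have : IsNoetherianRing (X.presheaf.stalk x) := inferInstance
  let R := X.presheaf.stalk x
  let J : Ideal R := idAt U hV hxV ⊔ Module.annihilator R (F.presheaf.stalk x)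
  refine Depth.subsingleton_ext_of_lt_idealDepth (I := J) (M := G.presheaf.stalk x) _ ?_ ?_ hi
  · intro r hr
    have hle : J ≤ (Module.annihilator R (quotN F (idAt U hV hxV) k)).radical := by
      refine sup_le (fun a ha => ⟨k, Module.mem_annihilator.2 fun v => ?_⟩)
        (le_trans ?_ Ideal.le_radical)
      · obtain ⟨w, rfl⟩ := Submodule.mkQ_surjective _ v
        rw [← map_smul]
        exact (Submodule.Quotient.mk_eq_zero _).2
          (Submodule.smul_mem_smul (Ideal.pow_mem_pow ha k) Submodule.mem_top)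
      · exact LinearMap.annihilator_le_of_surjective _ (Submodule.mkQ_surjective _)
    obtain ⟨m, hm⟩ := hle hr
    exact ⟨m, fun v => Module.mem_annihilator.1 hm v⟩
  · rw [Depth.idealDepth_eq_iInf_depth]
    refine le_iInf₂ fun q hq => ?_
    rw [ZClosLib.DepthCrit.depth_localizedModule_eq G hGc x q]
    refine hd _ (ZClosLib.DepthCrit.stalkPt_specializes x q) ?_ ?_
    · have h1 : q ∈ PrimeSpectrum.zeroLocus (idAt U hV hxV : Set R) := le_trans le_sup_left hq
      have h2 := (ZClosLib.StalkCrit.zeroLocus_map_affineIdeal hV (cplClosed U) hxV).le h1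
      exact h2
    · intro hsub
      have h3 : q ∈ Module.support R (F.presheaf.stalk x) :=
        Module.mem_support_iff_of_finite.2 (le_trans le_sup_right hq)
      have : Nontrivial (LocalizedModule q.asIdeal.primeCompl (F.presheaf.stalk x)) :=
        Module.mem_support_iff.1 h3
      have := FDesc.QuasiFlat.finite_stalk_of_isCoh F hF x
      have htop := (ZClosLib.DepthCrit.depth_localizedModule_eq F hF x q).trans
        (@Depth.idealDepth_eq_top_of_subsingleton _ _ _ _ _ _ hsub)
      exact ne_top_of_lt Depth.depth_lt_top htop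

include hF in
theorem subsingleton_stalk_of_not_mem_dims (hreg : ∀ y : X, IsRegularLocalRing (X.presheaf.stalk y))
    (n : ℕ) (hn : ∀ y : X, y ∉ U → y ∈ CohB1.support F →
      ringKrullDim (X.presheaf.stalk y) ≠ (n : WithBot ℕ∞)) (hFq : IsClosed (CohB1.support F)) (x : X) :
    Subsingleton ((((TZ U F).rightDerived n).obj (Coh.structureModule X)).presheaf.stalk x) := by
  have hO := ProperFin.isCoh_structureModule X
  by_cases hx : x ∈ U ∨ x ∉ CohB1.support F
  · exact subsingleton_stalk_of_mem_or U F hF hO.1 n hx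
  push Not at hx
  have := hreg x
  rcases lt_or_ge (ringKrullDim (X.presheaf.stalk x)) (n : WithBot ℕ∞) with h | h
  · exact subsingleton_stalk_of_dim_lt U F hF hO.1 h
  refine subsingleton_stalk_of_depth U hF hO (n := n + 1) n.lt_succ_self fun y hy hyU hyS => ?_
  obtain ⟨q, rfl⟩ := ZClosLib.DepthCrit.exists_stalkPt_eq hy
  have := hreg (stalkPt x q)
  have := Depth.isCohenMacaulayLocalRing_of_isRegularLocalRing (R := X.presheaf.stalk (stalkPt x q))
  obtain ⟨d, hd, -⟩ := RegLoc.exists_natCast_eq_ringKrullDim (X.presheaf.stalk (stalkPt x q))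
  rw [Depth.depth_eq_idealDepth, ← Depth.idealDepth_congr (InjMod.unitStalkEquiv (stalkPt x q)),
    ← Depth.depth_eq_idealDepth, CanonMod.depth_self hd]
  by_contra hlt
  rw [not_le, Nat.cast_lt] at hlt
  rw [ringKrullDim_stalkPt] at hd
  obtain ⟨r, hqr, hr⟩ := exists_prime_height_between (q := q) (n := n)
    ((show q.asIdeal.height = (d : ℕ∞) by exact_mod_cast hd).le.trans (by exact_mod_cast Nat.lt_succ_iff.mp hlt)) h
  have hsp : stalkPt x q ⤳ stalkPt x r := by
    have := (PrimeSpectrum.le_iff_specializes q r).mp hqr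
    exact this.map (X.fromSpecStalk x).continuous
  exact hn _ (fun hU => hyU (hsp.mem_open U.2 hU)) (hsp.mem_closed hFq hyS)
    ((ringKrullDim_stalkPt x r).trans (by rw [hr]; rfl))

end Groth.Agent.ExtZShLib
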